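import Groth.Agent.Lib.GrpQ.AffineQuot
import Groth.Agent.Lib.GrpQ.InfSub
import Groth.Prelude.Def_GLin4
import Groth.Prelude.Def_GLin5
import Groth.Agent.Lib.RedPts.Points

/-!
# Points of `GL` as matrices and the block-triangular subgroup over a subgroup of `GL_n`
-/

set_option autoImplicit false
set_option linter.unusedSectionVars false
set_option linter.style.haveILetI false

noncomputable section

universe u

open CategoryTheory Limits MonoidalCategory CartesianMonoidalCategory MonObj AlgebraicGeometry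
open Groth.Agent.Lib.RedPts Groth.Agent.Lib.GrpQ CoordGrp

namespace Groth.Agent.Lib.NonTriv76

attribute [local instance] Points.baseAlgebra

variable {k : Type u} [Field k] {W W' : Over (Spec (CommRingCat.of k))} {N n : ℕ}

/-- The general linear group. -/
abbrev GLk (k : Type u) [Field k] (N : ℕ) : Over (Spec (CommRingCat.of k)) :=
  (Spec (CommRingCat.of (CoordGrp.GLn N k))).asOver (Spec (CommRingCat.of k))

/-- Pull-back of functions. -/
def pbA (t : W' ⟶ W) : Γ(W.left, ⊤) →ₐ[k] Γ(W'.left, ⊤) :=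
  { t.left.appTop.hom with
    commutes' := fun r => by
      change t.left.appTop (Points.baseHom W r) = Points.baseHom W' r
      simp only [Points.baseHom, ← Over.w t, Scheme.Hom.comp_appTop]
      rfl }

/-- The matrix of a point. -/
def mN (x : W ⟶ GLk k N) : Matrix (Fin N) (Fin N) Γ(W.left, ⊤) :=
  Matrix.of fun i j => Points.algHomOf x (GLn.X i j)

theorem mN_mul (x y : W ⟶ GLk k N) : mN (x * y) = mN x * mN y := by
  ext i j
  rw [Matrix.mul_apply]
  show Points.algHomOf (x * y) (GLn.X i j) = _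
  rw [Points.algHomOf_mul, GLn.comul_X, map_sum]
  simp [mN]

theorem mN_one : mN (1 : W ⟶ GLk k N) = 1 := by
  ext i j
  show Points.algHomOf (1 : W ⟶ GLk k N) (GLn.X i j) = _
  rw [Points.algHomOf_one, GLn.counit_X, Matrix.one_apply]
  split_ifs <;> simp

theorem mN_comp (t : W' ⟶ W) (x : W ⟶ GLk k N) : mN (t ≫ x) = (mN x).map (pbA t) := by
  ext i j
  exact Points.ringHomOf_comp t.left x.left _

theorem det_mN (x : W ⟶ GLk k N) : (mN x).det = Points.algHomOf x GLn.det := by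
  rw [GLn.det_eq, AlgHom.map_det]; rfl

theorem isUnit_det_mN (x : W ⟶ GLk k N) : IsUnit (mN x).det := by
  rw [det_mN]
  exact IsUnit.of_mul_eq_one _ (by rw [← map_mul, GLn.det_mul_Dinv, map_one])

theorem mN_injective : Function.Injective (mN : (W ⟶ GLk k N) → _) := fun x y h => by
  apply Points.algHomOf_injective
  refine GLn.algHom_ext (fun i j => congrFun (congrFun h i) j) ?_
  have hx : (mN x).det * Points.algHomOf x GLn.Dinv = 1 := by rw [det_mN, ← map_mul, GLn.det_mul_Dinv, map_one]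
  have hy : (mN x).det * Points.algHomOf y GLn.Dinv = 1 := by
    rw [h, det_mN, ← map_mul, GLn.det_mul_Dinv, map_one]
  exact (isUnit_det_mN x).mul_right_injective (hx.trans hy.symm)

theorem exists_mN (M : Matrix (Fin N) (Fin N) Γ(W.left, ⊤)) (h : IsUnit M.det) :
    ∃ x : W ⟶ GLk k N, mN x = M := by
  obtain ⟨d, hd⟩ := h.exists_right_inv
  refine ⟨Points.pointOf (A := CoordGrp.GLn N k) (W := W) (GLn.pt N k M d hd), ?_⟩
  ext i j
  exact (AlgHom.congr_fun (Points.algHomOf_pointOf (A := CoordGrp.GLn N k) (W := W) (GLn.pt N k M d hd)) _).trans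
    (GLn.pt_X _ _ _ i j)

/-- The matrix of a point, in blocks. -/
def mat (x : W ⟶ GLk k (n + n)) : Matrix (Fin n ⊕ Fin n) (Fin n ⊕ Fin n) Γ(W.left, ⊤) :=
  (mN x).submatrix finSumFinEquiv finSumFinEquiv

theorem mat_mul (x y : W ⟶ GLk k (n + n)) : mat (x * y) = mat x * mat y := by
  rw [mat, mN_mul, mat, mat, Matrix.submatrix_mul_equiv]

theorem mat_one : mat (1 : W ⟶ GLk k (n + n)) = 1 := by
  rw [mat, mN_one, Matrix.submatrix_one_equiv]

theorem mat_comp (t : W' ⟶ W) (x : W ⟶ GLk k (n + n)) : mat (t ≫ x) = (mat x).map (pbA t) := by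
  rw [mat, mN_comp, mat]; rfl

theorem isUnit_det_mat (x : W ⟶ GLk k (n + n)) : IsUnit (mat x).det := by
  rw [mat, Matrix.det_submatrix_equiv_self]; exact isUnit_det_mN x

theorem mat_injective : Function.Injective (mat : (W ⟶ GLk k (n + n)) → _) := fun x y h => by
  apply mN_injective
  have := congrArg (fun M => M.submatrix finSumFinEquiv.symm finSumFinEquiv.symm) h
  simpa [mat, Matrix.submatrix_submatrix] using this

theorem exists_mat (M : Matrix (Fin n ⊕ Fin n) (Fin n ⊕ Fin n) Γ(W.left, ⊤)) (h : IsUnit M.det) :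
    ∃ x : W ⟶ GLk k (n + n), mat x = M := by
  obtain ⟨x, hx⟩ := exists_mN (M.submatrix finSumFinEquiv.symm finSumFinEquiv.symm)
    (by rwa [Matrix.det_submatrix_equiv_self])
  exact ⟨x, by rw [mat, hx, Matrix.submatrix_submatrix]; simp⟩

theorem eq_fromBlocks {R : Type u} [CommRing R] {M : Matrix (Fin n ⊕ Fin n) (Fin n ⊕ Fin n) R}
    (h : M.toBlocks₂₁ = 0) : M = Matrix.fromBlocks M.toBlocks₁₁ M.toBlocks₁₂ 0 M.toBlocks₂₂ := by
  rw [← h, Matrix.fromBlocks_toBlocks]

variable {G : Over (Spec (CommRingCat.of k))} [GrpObj G] (ιG : G ⟶ GLk k n) [IsMonHom ιG]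
  [IsClosedImmersion ιG.left]

/-- The block triangular subgroup with upper left block in `G`. -/
theorem exists_blockSub :
    ∃ (Q : Over (Spec (CommRingCat.of k))) (_ : GrpObj Q) (iQ : Q ⟶ GLk k (n + n)) (π : Q ⟶ G),
      IsMonHom iQ ∧ IsMonHom π ∧ IsClosedImmersion iQ.left ∧
      (∀ {W : Over (Spec (CommRingCat.of k))} (q : W ⟶ Q),
        (mat (q ≫ iQ)).toBlocks₁₁ = mN ((q ≫ π) ≫ ιG) ∧ (mat (q ≫ iQ)).toBlocks₂₁ = 0) ∧
      ∀ {W : Over (Spec (CommRingCat.of k))} (g : W ⟶ G) (v c : Matrix (Fin n) (Fin n) Γ(W.left, ⊤)),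
        IsUnit c.det → ∃ q : W ⟶ Q, q ≫ π = g ∧ mat (q ≫ iQ) = Matrix.fromBlocks (mN (g ≫ ιG)) v 0 c := by
  let B := CoordGrp.GLn (n + n) k
  let I : Ideal B := Ideal.span (Set.range fun p : Fin n × Fin n =>
    (GLn.X (finSumFinEquiv (Sum.inr p.1)) (finSumFinEquiv (Sum.inl p.2)) : B))
  let q₀ : B →ₐ[k] B ⧸ I := Ideal.Quotient.mkₐ k I
  let Z : Over (Spec (CommRingCat.of k)) := (Spec (CommRingCat.of (B ⧸ I))).asOver (Spec (CommRingCat.of k))
  let iZ : Z ⟶ GLk k (n + n) := Over.homMk (Spec.map (CommRingCat.ofHom q₀.toRingHom)) (by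
    show Spec.map _ ≫ Spec.map (CommRingCat.ofHom (algebraMap k B)) = Spec.map (CommRingCat.ofHom (algebraMap k (B ⧸ I)))
    rw [← Spec.map_comp, ← CommRingCat.ofHom_comp]
    exact congrArg (fun r => Spec.map (CommRingCat.ofHom r)) q₀.comp_algebraMap)
  have hiZ : IsClosedImmersion iZ.left :=
    IsClosedImmersion.spec_of_surjective _ Ideal.Quotient.mk_surjective
  have := GrpQ.mono_of_left iZ
  have hZpt : ∀ {W : Over (Spec (CommRingCat.of k))} (x : W ⟶ GLk k (n + n)),
      (∃ z, z ≫ iZ = x) ↔ (mat x).toBlocks₂₁ = 0 := by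
    intro W x
    constructor
    · rintro ⟨z, rfl⟩
      ext i j
      show Points.ringHomOf (z ≫ iZ).left (GLn.X (finSumFinEquiv (Sum.inr i)) (finSumFinEquiv (Sum.inl j))) = 0
      rw [Over.comp_left]
      refine (Points.ringHomOf_comp z.left iZ.left _).trans ?_
      rw [Points.ringHomOf_apply]
      have e : iZ.left.appTop ((Scheme.ΓSpecIso (CommRingCat.of B)).inv
          (GLn.X (finSumFinEquiv (Sum.inr i)) (finSumFinEquiv (Sum.inl j)))) = 0 := by
        show (Spec.map (CommRingCat.ofHom q₀.toRingHom)).appTop _ = _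
        rw [← CategoryTheory.comp_apply, ← Scheme.ΓSpecIso_inv_naturality]
        show (Scheme.ΓSpecIso (CommRingCat.of (B ⧸ I))).inv (Ideal.Quotient.mk I _) = 0
        have hmem : (GLn.X (finSumFinEquiv (Sum.inr i)) (finSumFinEquiv (Sum.inl j)) : B) ∈ I :=
          Ideal.subset_span (Set.mem_range_self (i, j))
        rw [Ideal.Quotient.eq_zero_iff_mem.2 hmem, map_zero]
      exact (congrArg z.left.appTop e).trans (map_zero _)
    · intro h
      have hI : ∀ a ∈ I, Points.algHomOf x a = 0 := by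
        intro a ha
        refine (Ideal.span_le.2 ?_ : I ≤ RingHom.ker (Points.algHomOf x)) ha
        rintro _ ⟨p, rfl⟩
        exact congrFun (congrFun h p.1) p.2
      let φ : B ⧸ I →ₐ[k] Γ(W.left, ⊤) := Ideal.Quotient.liftₐ I (Points.algHomOf x) hI
      refine ⟨Over.homMk (W.left.toSpecΓ ≫ Spec.map (CommRingCat.ofHom φ.toRingHom)) ?_, ?_⟩
      · show (_ ≫ Spec.map _) ≫ Spec.map (CommRingCat.ofHom (algebraMap k (B ⧸ I))) = W.hom
        rw [Category.assoc, ← Spec.map_comp, ← CommRingCat.ofHom_comp]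
        exact (congrArg (fun r => W.left.toSpecΓ ≫ Spec.map (CommRingCat.ofHom r)) φ.comp_algebraMap).trans
          (Over.w (Points.toSpec W))
      · refine Over.OverMorphism.ext ?_
        show (_ ≫ Spec.map _) ≫ Spec.map _ = x.left
        rw [Category.assoc, ← Spec.map_comp, ← CommRingCat.ofHom_comp]
        exact (Points.eq_toSpecΓ x.left).symm
  have hu : IsUnit (mat iZ).toBlocks₁₁.det := by
    have h := isUnit_det_mat iZ
    rw [eq_fromBlocks ((hZpt iZ).1 ⟨𝟙 Z, Category.id_comp _⟩), Matrix.det_fromBlocks_zero₂₁, IsUnit.mul_iff] at h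
    exact h.1
  obtain ⟨uZ, huZ⟩ := exists_mN _ hu
  have huz : ∀ {W : Over (Spec (CommRingCat.of k))} (z : W ⟶ Z), mN (z ≫ uZ) = (mat (z ≫ iZ)).toBlocks₁₁ := by
    intro W z
    rw [mN_comp, huZ, mat_comp]; rfl
  let Q := pullback ιG uZ
  let π : Q ⟶ G := pullback.fst ιG uZ
  let iQ : Q ⟶ GLk k (n + n) := pullback.snd ιG uZ ≫ iZ
  have hc : IsClosedImmersion (pullback.snd ιG uZ).left :=
    MorphismProperty.of_isPullback (P := @IsClosedImmersion)
      ((IsPullback.of_hasPullback ιG uZ).map (Over.forget _)) ‹_›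
  have hiQ : IsClosedImmersion iQ.left := by
    show IsClosedImmersion ((pullback.snd ιG uZ).left ≫ iZ.left)
    infer_instance
  have := GrpQ.mono_of_left iQ
  have := GrpQ.mono_of_left ιG
  have hQ : ∀ {W : Over (Spec (CommRingCat.of k))} (q : W ⟶ Q),
      (mat (q ≫ iQ)).toBlocks₁₁ = mN ((q ≫ π) ≫ ιG) ∧ (mat (q ≫ iQ)).toBlocks₂₁ = 0 := by
    intro W q
    refine ⟨?_, (hZpt _).1 ⟨q ≫ pullback.snd ιG uZ, Category.assoc _ _ _⟩⟩
    have h := huz (q ≫ pullback.snd ιG uZ)
    rw [Category.assoc, ← pullback.condition, ← Category.assoc, Category.assoc] at h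
    rw [Category.assoc, h, Category.assoc]
  have hQ' : ∀ {W : Over (Spec (CommRingCat.of k))} (x : W ⟶ GLk k (n + n)),
      (mat x).toBlocks₂₁ = 0 → ∀ g : W ⟶ G, (mat x).toBlocks₁₁ = mN (g ≫ ιG) → ∃ q, q ≫ iQ = x ∧ q ≫ π = g := by
    intro W x h0 g hg
    obtain ⟨z, rfl⟩ := (hZpt x).2 h0
    rw [← huz] at hg
    exact ⟨pullback.lift g z (mN_injective hg.symm),
      (Category.assoc _ _ _).symm.trans (congrArg (· ≫ iZ) (pullback.lift_snd _ _ _)), pullback.lift_fst _ _ _⟩
  obtain ⟨_, hmon⟩ : ∃ _ : GrpObj Q, IsMonHom iQ := by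
    refine GrpQ.InfSub.exists_grpObj_of_mono iQ ?_ ?_ ?_
    · obtain ⟨q, hq, -⟩ := hQ' (1 : 𝟙_ (Over (Spec (CommRingCat.of k))) ⟶ GLk k (n + n)) (by
        rw [mat_one]; ext i j; simp [Matrix.toBlocks₂₁]) 1 (by
        rw [mat_one, MonObj.one_comp, mN_one]; ext i j; simp [Matrix.toBlocks₁₁, Matrix.one_apply])
      exact ⟨q, hq.trans (by rw [Hom.one_def, toUnit_unique (toUnit _) (𝟙 _), Category.id_comp])⟩
    · obtain ⟨h1, h0⟩ := hQ (fst Q Q)
      obtain ⟨h1', h0'⟩ := hQ (snd Q Q)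
      obtain ⟨q, hq, -⟩ := hQ' ((fst Q Q ≫ iQ) * (snd Q Q ≫ iQ)) (by
          rw [mat_mul, eq_fromBlocks h0, eq_fromBlocks h0', Matrix.fromBlocks_multiply, Matrix.toBlocks_fromBlocks₂₁,
            Matrix.zero_mul, Matrix.mul_zero, add_zero])
        ((fst Q Q ≫ π) * (snd Q Q ≫ π)) (by
          rw [mat_mul, eq_fromBlocks h0, eq_fromBlocks h0', Matrix.fromBlocks_multiply, Matrix.toBlocks_fromBlocks₁₁,
            Matrix.mul_zero, add_zero, MonObj.mul_comp, mN_mul, h1, h1'])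
      exact ⟨q, hq⟩
    · obtain ⟨h1, h0⟩ := hQ (𝟙 Q)
      rw [Category.id_comp] at h0 h1
      have hinv : mat iQ⁻¹ * mat iQ = 1 := by rw [← mat_mul, inv_mul_cancel, mat_one]
      rw [Category.id_comp] at h1
      have hc : IsUnit (mat iQ).toBlocks₁₁.det := by
        rw [h1]; exact isUnit_det_mN _
      have hb : mat iQ * mat iQ⁻¹ = 1 := by rw [← mat_mul, mul_inv_cancel, mat_one]
      rw [eq_fromBlocks h0] at hinv
      rw [← Matrix.fromBlocks_toBlocks (mat iQ⁻¹), Matrix.fromBlocks_multiply, ← Matrix.fromBlocks_one,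
        Matrix.fromBlocks_inj] at hinv
      obtain ⟨e11, -, e21, -⟩ := hinv
      rw [Matrix.mul_zero, add_zero] at e11 e21
      have h21 : (mat iQ⁻¹).toBlocks₂₁ = 0 := by
        have := congrArg (fun M => M * (mat iQ).toBlocks₁₁⁻¹) e21
        simpa [Matrix.mul_assoc, Matrix.mul_nonsing_inv _ hc] using this
      obtain ⟨q, hq, -⟩ := hQ' iQ⁻¹ h21 π⁻¹ (by
        have hg : mN (π⁻¹ ≫ ιG) * mN (π ≫ ιG) = 1 := by
          rw [← mN_mul, ← MonObj.mul_comp, inv_mul_cancel, MonObj.one_comp, mN_one]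
        rw [← h1] at hg
        have := congrArg (fun M => M * (mat iQ).toBlocks₁₁⁻¹) (e11.trans hg.symm)
        simpa [Matrix.mul_assoc, Matrix.mul_nonsing_inv _ hc] using this)
      exact ⟨q, hq⟩
  have hπ : IsMonHom π := by
    have key : ∀ {W : Over (Spec (CommRingCat.of k))} (a b : W ⟶ Q), (a * b) ≫ π = (a ≫ π) * (b ≫ π) := by
      intro W a b
      rw [← cancel_mono ιG]
      apply mN_injective
      rw [← (hQ (a * b)).1, MonObj.mul_comp, mat_mul, eq_fromBlocks (hQ a).2, eq_fromBlocks (hQ b).2,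
        Matrix.fromBlocks_multiply, Matrix.toBlocks_fromBlocks₁₁, Matrix.mul_zero, add_zero,
        MonObj.mul_comp, mN_mul, (hQ a).1, (hQ b).1]
    constructor
    · have h := key (1 : 𝟙_ (Over (Spec (CommRingCat.of k))) ⟶ Q) 1
      rw [_root_.one_mul] at h
      have h' := mul_eq_left.1 h.symm
      rw [Hom.one_def, Hom.one_def, toUnit_unique (toUnit (𝟙_ (Over (Spec (CommRingCat.of k))))) (𝟙 _),
        Category.id_comp, Category.id_comp] at h'
      exact h'
    · have h := key (fst Q Q) (snd Q Q)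
      rw [Hom.mul_def, Hom.mul_def, lift_fst_snd, Category.id_comp] at h
      rw [h, lift_fst_comp_snd_comp]
  refine ⟨Q, inferInstance, iQ, π, hmon, hπ, hiQ, hQ, fun {W} g v c hc => ?_⟩
  obtain ⟨x, hx⟩ := exists_mat (Matrix.fromBlocks (mN (g ≫ ιG)) v 0 c) (by
    rw [Matrix.det_fromBlocks_zero₂₁]; exact (isUnit_det_mN _).mul hc)
  obtain ⟨q, hq, hq'⟩ := hQ' x (by rw [hx, Matrix.toBlocks_fromBlocks₂₁]) g
    (by rw [hx, Matrix.toBlocks_fromBlocks₁₁])
  exact ⟨q, hq', by rw [hq, hx]⟩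

end Groth.Agent.Lib.NonTriv76
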