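import Mathlib

/-!
# No equivariant retraction from block-triangular orbits to an invertible matrix family

Algebraic core: a natural family of invertible `n × n` matrices on invertible `2n × 2n` matrices,
equivariant for right multiplication by block triangular matrices with upper left block in a group,
extends to all `2n × n` matrices, and evaluation at zero forces the group to be trivial.
-/

set_option autoImplicit false
set_option linter.unusedSectionVars false

noncomputable section

universe u

open Matrix MvPolynomial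

namespace Groth.Agent.Lib.NonTriv76

variable {k : Type u} [Field k]

section Coeff

variable {σ : Type} {A : Type u} [CommRing A] [Algebra k A]

/-- Apply a functional to the coefficients. -/
def appl (φ : A →ₗ[k] k) (f : MvPolynomial σ A) : MvPolynomial σ k :=
  Finset.sum f.support fun m => monomial m (φ (coeff m f))

theorem coeff_appl (φ : A →ₗ[k] k) (f : MvPolynomial σ A) (m : σ →₀ ℕ) :
    coeff m (appl φ f) = φ (coeff m f) := by
  classical
  rw [appl, coeff_sum]
  simp only [coeff_monomial]
  rw [Finset.sum_ite_eq']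
  split_ifs with h
  · rfl
  · rw [notMem_support_iff.1 h, map_zero]

theorem appl_mul_map (φ : A →ₗ[k] k) (f : MvPolynomial σ A) (d : MvPolynomial σ k) :
    appl φ (f * MvPolynomial.map (algebraMap k A) d) = appl φ f * d := by
  classical
  ext m
  rw [coeff_appl, coeff_mul, coeff_mul, map_sum]
  refine Finset.sum_congr rfl fun p _ => ?_
  rw [coeff_appl, coeff_map, mul_comm (coeff p.1 f), ← Algebra.smul_def, map_smul, smul_eq_mul, mul_comm]

/-- A non-zero polynomial over the field is regular over every algebra. -/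
theorem eq_zero_of_mul_map {f : MvPolynomial σ A} {d : MvPolynomial σ k} (hd : d ≠ 0)
    (h : f * MvPolynomial.map (algebraMap k A) d = 0) : f = 0 := by
  ext m
  rw [coeff_zero]
  refine (Module.forall_dual_apply_eq_zero_iff k _).1 fun φ => ?_
  have h' := appl_mul_map φ f d
  rw [h] at h'
  have h0 : appl φ (0 : MvPolynomial σ A) = 0 := by ext m; rw [coeff_appl]; simp
  rw [h0] at h'
  have := congrArg (coeff m) ((mul_eq_zero.1 h'.symm).resolve_right hd)
  rwa [coeff_appl, coeff_zero] at this

/-- Divisibility by constants of coefficients. -/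
theorem C_dvd_of_mul_map {a : A} (g h : MvPolynomial σ A) {d : MvPolynomial σ k} (hd : d ≠ 0)
    (e : g * MvPolynomial.map (algebraMap k A) d = h * C a) : C a ∣ g := by
  refine C_dvd_iff_dvd_coeff _ _ |>.2 fun m => ?_
  rw [← Ideal.mem_span_singleton, ← Submodule.Quotient.mk_eq_zero]
  refine (Module.forall_dual_apply_eq_zero_iff k _).1 fun φ => ?_
  let ψ : A →ₗ[k] k := φ.comp ((Ideal.span {a}).mkQ.restrictScalars k)
  have h' := appl_mul_map ψ g d
  have h0 : appl ψ (h * C a) = 0 := by
    ext m
    rw [coeff_appl, coeff_zero, mul_comm, coeff_C_mul]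
    show φ (Submodule.Quotient.mk (a * coeff m h)) = 0
    rw [(Submodule.Quotient.mk_eq_zero _).2 (Ideal.mem_span_singleton.2 (dvd_mul_right _ _)), map_zero]
  rw [e, h0] at h'
  have := congrArg (coeff m) ((mul_eq_zero.1 h'.symm).resolve_right hd)
  rwa [coeff_appl, coeff_zero] at this

end Coeff

/-- Hartogs for two blocks of variables. -/
theorem dvd_of_rename {σ τ : Type} {d₁ : MvPolynomial σ k} {d₂ : MvPolynomial τ k} (hd₂ : d₂ ≠ 0)
    {g h : MvPolynomial (τ ⊕ σ) k}
    (e : g * rename Sum.inl d₂ = h * rename Sum.inr d₁) : rename Sum.inr d₁ ∣ g := by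
  let Φ := sumAlgEquiv k τ σ
  have h₁ : Φ (rename Sum.inr d₁) = C d₁ := by
    clear e
    induction d₁ using MvPolynomial.induction_on with
    | C a => rw [rename_C, sumAlgEquiv_C_inl]
    | add p q hp hq => simp only [map_add, hp, hq]
    | mul_X p i hp => rw [map_mul, map_mul, hp, rename_X, sumAlgEquiv_X_inr, ← C.map_mul]
  have h₂ : Φ (rename Sum.inl d₂) = MvPolynomial.map (algebraMap k (MvPolynomial σ k)) d₂ := by
    clear e hd₂ h₁
    induction d₂ using MvPolynomial.induction_on with
    | C a => rw [rename_C, sumAlgEquiv_C_inl, MvPolynomial.map_C]; rfl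
    | add p q hp hq => simp only [map_add, hp, hq]
    | mul_X p i hp => rw [map_mul, map_mul, hp, rename_X, sumAlgEquiv_X_inl, map_mul, MvPolynomial.map_X]
  have e' := congrArg Φ e
  rw [map_mul, map_mul, h₁, h₂] at e'
  have := C_dvd_of_mul_map (Φ g) (Φ h) hd₂ e'
  rw [← h₁] at this
  simpa using map_dvd Φ.symm this

variable (n : ℕ)

/-- The coordinates of a pair of `n × n` matrices. -/
abbrev Var : Type := (Fin n × Fin n) ⊕ (Fin n × Fin n)

/-- The index set of a `2n × 2n` matrix. -/
abbrev Idx2 : Type := Fin n ⊕ Fin n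

theorem det_gen_ne_zero :
    (Matrix.det (Matrix.of fun i j => (X (i, j) : MvPolynomial (Fin n × Fin n) k))) ≠ 0 := by
  intro h
  have := congrArg (aeval (R := k) (fun p : Fin n × Fin n => (1 : Matrix (Fin n) (Fin n) k) p.1 p.2)) h
  rw [AlgHom.map_det, map_zero] at this
  have e : (aeval (R := k) fun p : Fin n × Fin n => (1 : Matrix (Fin n) (Fin n) k) p.1 p.2).mapMatrix
      (Matrix.of fun i j => (X (i, j) : MvPolynomial (Fin n × Fin n) k)) = 1 := by
    ext i j
    simp
  rw [e, Matrix.det_one] at this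
  exact one_ne_zero this

variable {n}

theorem map_chartA {L L' : Type u} [CommRing L] [Algebra k L] [CommRing L'] [Algebra k L'] (f : L →ₐ[k] L')
    (a b : Matrix (Fin n) (Fin n) L) :
    (fromBlocks a (0 : Matrix (Fin n) (Fin n) L) b (1 : Matrix (Fin n) (Fin n) L)).map f = fromBlocks (a.map f) 0 (b.map f) 1 := by
  rw [fromBlocks_map, Matrix.map_zero _ (map_zero f), Matrix.map_one _ (map_zero f) (map_one f)]

theorem map_chartB {L L' : Type u} [CommRing L] [Algebra k L] [CommRing L'] [Algebra k L'] (f : L →ₐ[k] L')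
    (a b : Matrix (Fin n) (Fin n) L) :
    (fromBlocks a (1 : Matrix (Fin n) (Fin n) L) b (0 : Matrix (Fin n) (Fin n) L)).map f = fromBlocks (a.map f) 1 (b.map f) 0 := by
  rw [fromBlocks_map, Matrix.map_zero _ (map_zero f), Matrix.map_one _ (map_zero f) (map_one f)]

theorem isUnit_det_map {L L' : Type u} [CommRing L] [Algebra k L] [CommRing L'] [Algebra k L'] (f : L →ₐ[k] L')
    {m : Type} [Fintype m] [DecidableEq m] {M : Matrix m m L} (h : IsUnit M.det) : IsUnit (M.map f).det := by
  rw [show M.map f = f.mapMatrix M from rfl, ← AlgHom.map_det]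
  exact h.map f

theorem isUnit_chartA {L : Type u} [CommRing L] {a : Matrix (Fin n) (Fin n) L} (b : Matrix (Fin n) (Fin n) L)
    (h : IsUnit a.det) : IsUnit (fromBlocks a (0 : Matrix (Fin n) (Fin n) L) b (1 : Matrix (Fin n) (Fin n) L)).det := by
  rw [det_fromBlocks_zero₁₂, det_one, mul_one]; exact h

theorem isUnit_chartB {L : Type u} [CommRing L] (a : Matrix (Fin n) (Fin n) L) {b : Matrix (Fin n) (Fin n) L}
    (h : IsUnit b.det) : IsUnit (fromBlocks a (1 : Matrix (Fin n) (Fin n) L) b (0 : Matrix (Fin n) (Fin n) L)).det := by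
  have e : fromBlocks (1 : Matrix (Fin n) (Fin n) L) a 0 b * fromBlocks (0 : Matrix (Fin n) (Fin n) L) 1 1 (0 : Matrix (Fin n) (Fin n) L) = fromBlocks a 1 b (0 : Matrix (Fin n) (Fin n) L) := by
    simp [fromBlocks_multiply]
  rw [← e, det_mul, det_fromBlocks_zero₂₁, det_one, one_mul]
  refine h.mul ?_
  have : fromBlocks (0 : Matrix (Fin n) (Fin n) L) 1 1 (0 : Matrix (Fin n) (Fin n) L) * fromBlocks (0 : Matrix (Fin n) (Fin n) L) 1 1 (0 : Matrix (Fin n) (Fin n) L) = 1 := by
    simp [fromBlocks_multiply]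
  exact IsUnit.of_mul_eq_one _ (by rw [← det_mul, this, det_one])

variable (k n) in
/-- A natural family of `n × n` matrices on invertible `2n × 2n` matrices. -/
structure Fam where
  F : ∀ {L : Type u} [CommRing L] [Algebra k L] (M : Matrix (Idx2 n) (Idx2 n) L), IsUnit M.det →
    Matrix (Fin n) (Fin n) L
  nat : ∀ {L L' : Type u} [CommRing L] [Algebra k L] [CommRing L'] [Algebra k L'] (f : L →ₐ[k] L')
    (M : Matrix (Idx2 n) (Idx2 n) L) (h : IsUnit M.det),
    F (M.map f) (isUnit_det_map f h) = (F M h).map f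

theorem Fam.congr (Φ : Fam k n) {L : Type u} [CommRing L] [Algebra k L] {M M' : Matrix (Idx2 n) (Idx2 n) L}
    (e : M = M') (h : IsUnit M.det) (h' : IsUnit M'.det) : Φ.F M h = Φ.F M' h' := by
  subst e; rfl

variable (k n) in
/-- The two generic blocks. -/
def genA : Matrix (Fin n) (Fin n) (MvPolynomial (Var n) k) := Matrix.of fun i j => X (Sum.inr (i, j))

variable (k n) in
/-- The second generic block. -/
def genB : Matrix (Fin n) (Fin n) (MvPolynomial (Var n) k) := Matrix.of fun i j => X (Sum.inl (i, j))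

variable (k n) in
theorem det_genA : (genA k n).det = rename Sum.inr (Matrix.det (Matrix.of fun i j => X (i, j))) := by
  rw [AlgHom.map_det]; congr 1; ext i j; simp [genA]

variable (k n) in
theorem det_genB : (genB k n).det = rename Sum.inl (Matrix.det (Matrix.of fun i j => X (i, j))) := by
  rw [AlgHom.map_det]; congr 1; ext i j; simp [genB]

/-- The family on the first chart, as polynomials. -/
theorem Fam.exists_extension (Φ : Fam k n)
    (hagree : ∀ {L : Type u} [CommRing L] [Algebra k L] (a b : Matrix (Fin n) (Fin n) L) (ha : IsUnit a.det)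
      (hb : IsUnit b.det), Φ.F _ (isUnit_chartA b ha) = Φ.F _ (isUnit_chartB a hb)) :
    ∃ H : Matrix (Fin n) (Fin n) (MvPolynomial (Var n) k),
      ∀ (L : Type u) [CommRing L] [Algebra k L] (f : MvPolynomial (Var n) k →ₐ[k] L)
        (ha : IsUnit ((genA k n).map f).det),
        Φ.F _ (isUnit_chartA ((genB k n).map f) ha) = H.map f := by
  classical
  let P := MvPolynomial (Var n) k
  let dA : P := (genA k n).det
  let dB : P := (genB k n).det
  have hdA : dA ≠ 0 := by
    show (genA k n).det ≠ 0
    rw [det_genA, Ne, ← map_zero (rename Sum.inr), (rename_injective _ Sum.inr_injective).eq_iff]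
    exact det_gen_ne_zero n
  have hdB : dB ≠ 0 := by
    show (genB k n).det ≠ 0
    rw [det_genB, Ne, ← map_zero (rename Sum.inl), (rename_injective _ Sum.inl_injective).eq_iff]
    exact det_gen_ne_zero n
  let LA := Localization.Away dA
  let LB := Localization.Away dB
  let LAB := Localization.Away (dA * dB)
  let iA : P →ₐ[k] LA := IsScalarTower.toAlgHom k P LA
  let iB : P →ₐ[k] LB := IsScalarTower.toAlgHom k P LB
  let iAB : P →ₐ[k] LAB := IsScalarTower.toAlgHom k P LAB
  have huA : IsUnit ((genA k n).map iA).det := by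
    rw [show (genA k n).map iA = iA.mapMatrix (genA k n) from rfl, ← AlgHom.map_det]
    exact IsLocalization.Away.algebraMap_isUnit dA
  have huB : IsUnit ((genB k n).map iB).det := by
    rw [show (genB k n).map iB = iB.mapMatrix (genB k n) from rfl, ← AlgHom.map_det]
    exact IsLocalization.Away.algebraMap_isUnit dB
  have hABu : IsUnit (iAB (dA * dB)) := IsLocalization.Away.algebraMap_isUnit _
  rw [map_mul, IsUnit.mul_iff] at hABu
  let jA : LA →ₐ[k] LAB := IsLocalization.liftAlgHom (M := Submonoid.powers dA) (f := iAB) (by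
    rintro ⟨_, m, rfl⟩; rw [map_pow]; exact hABu.1.pow m)
  let jB : LB →ₐ[k] LAB := IsLocalization.liftAlgHom (M := Submonoid.powers dB) (f := iAB) (by
    rintro ⟨_, m, rfl⟩; rw [map_pow]; exact hABu.2.pow m)
  have hjA : ∀ x, jA (iA x) = iAB x := fun x => IsLocalization.lift_eq _ x
  have hjB : ∀ x, jB (iB x) = iAB x := fun x => IsLocalization.lift_eq _ x
  have hinj : Function.Injective iAB :=
    IsLocalization.injective LAB (powers_le_nonZeroDivisors_of_noZeroDivisors (mul_ne_zero hdA hdB))
  let FA := Φ.F _ (isUnit_chartA ((genB k n).map iA) huA)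
  let FB := Φ.F _ (isUnit_chartB ((genA k n).map iB) huB)
  have eAB : FA.map jA = FB.map jB := by
    have h1 := isUnit_det_map jA huA
    have h2 := isUnit_det_map jB huB
    rw [Matrix.map_map, show (jA : LA → LAB) ∘ iA = iAB from funext hjA] at h1
    rw [Matrix.map_map, show (jB : LB → LAB) ∘ iB = iAB from funext hjB] at h2
    rw [← Φ.nat jA, ← Φ.nat jB]
    refine (Φ.congr ?_ _ (isUnit_chartA ((genB k n).map iAB) h1)).trans ((hagree _ _ h1 h2).trans (Φ.congr ?_ _ _))
    · rw [map_chartA, Matrix.map_map, Matrix.map_map, show (jA : LA → LAB) ∘ iA = iAB from funext hjA]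
    · rw [map_chartB, Matrix.map_map, Matrix.map_map, show (jB : LB → LAB) ∘ iB = iAB from funext hjB]
  have hex : ∀ i j, ∃ h : P, iA h = FA i j := by
    intro i j
    obtain ⟨a, g, hg⟩ := IsLocalization.Away.surj dA (FA i j)
    obtain ⟨b, h', hh'⟩ := IsLocalization.Away.surj dB (FB i j)
    have hg' := congrArg jA hg
    have hh'' := congrArg jB hh'
    change jA (FA i j * iA dA ^ a) = jA (iA g) at hg'
    change jB (FB i j * iB dB ^ b) = jB (iB h') at hh''
    rw [map_mul, map_pow, hjA, hjA] at hg'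
    rw [map_mul, map_pow, hjB, hjB, ← show jA (FA i j) = jB (FB i j) from congrFun (congrFun eAB i) j] at hh''
    have e : g * dB ^ b = h' * dA ^ a := hinj (by
      rw [map_mul, map_mul, map_pow, map_pow, ← hg', ← hh'']; ring)
    obtain ⟨q, rfl⟩ : dA ^ a ∣ g := by
      have e' := e
      simp only [dA, dB] at e' ⊢
      rw [det_genA, det_genB, ← map_pow, ← map_pow] at e'
      rw [det_genA, ← map_pow]
      exact dvd_of_rename (pow_ne_zero _ (det_gen_ne_zero n)) e'
    refine ⟨q, ?_⟩
    change FA i j * iA dA ^ a = iA (dA ^ a * q) at hg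
    rw [map_mul, map_pow, mul_comm (iA dA ^ a)] at hg
    exact (((IsLocalization.Away.algebraMap_isUnit (S := LA) dA).pow a).mul_left_injective hg).symm
  choose H hH using hex
  refine ⟨Matrix.of H, fun L _ _ f ha => ?_⟩
  have hfd : IsUnit (f dA) := by
    rw [show f dA = ((genA k n).map f).det from AlgHom.map_det f _]
    exact ha
  let jf : LA →ₐ[k] L := IsLocalization.liftAlgHom (M := Submonoid.powers dA) (f := f) (by
    rintro ⟨_, m, rfl⟩; rw [map_pow]; exact hfd.pow m)
  have hjf : ∀ x, jf (iA x) = f x := fun x => IsLocalization.lift_eq _ x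
  have e := Φ.nat jf _ (isUnit_chartA ((genB k n).map iA) huA)
  refine (Φ.congr ?_ _ _).trans (e.trans ?_)
  · rw [map_chartA, Matrix.map_map, Matrix.map_map, show (jf : LA → L) ∘ iA = f from funext hjf]
  · ext i j
    show jf (FA i j) = f (H i j)
    rw [← hH, hjf]

/-- The core: the group is trivial. -/
theorem eq_one_of_fam {A : Type u} [CommRing A] [Algebra k A] (g₀ : Matrix (Fin n) (Fin n) A)
    (hg₀ : IsUnit g₀.det) (Φ Ψ : Fam k n)
    (hinv : ∀ {L : Type u} [CommRing L] [Algebra k L] (M : Matrix (Idx2 n) (Idx2 n) L) (h : IsUnit M.det),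
      Ψ.F M h * Φ.F M h = 1)
    (hP : ∀ {L : Type u} [CommRing L] [Algebra k L] (M : Matrix (Idx2 n) (Idx2 n) L) (h : IsUnit M.det)
      (v c : Matrix (Fin n) (Fin n) L) (h' : IsUnit (M * fromBlocks 1 v 0 c).det),
      IsUnit c.det → Φ.F _ h' = Φ.F M h)
    (hG : ∀ {L : Type u} [CommRing L] [Algebra k L] (χ : A →ₐ[k] L) (M : Matrix (Idx2 n) (Idx2 n) L)
      (h : IsUnit M.det) (h' : IsUnit (M * fromBlocks (g₀.map χ) 0 0 1).det),
      Φ.F _ h' = Φ.F M h * g₀.map χ) : g₀ = 1 := by
  classical
  have hagree : ∀ {L : Type u} [CommRing L] [Algebra k L] (a b : Matrix (Fin n) (Fin n) L) (ha : IsUnit a.det)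
      (hb : IsUnit b.det), Φ.F _ (isUnit_chartA b ha) = Φ.F _ (isUnit_chartB a hb) := by
    intro L _ _ a b ha hb
    have e : fromBlocks a 0 b (1 : Matrix (Fin n) (Fin n) L) * fromBlocks (1 : Matrix (Fin n) (Fin n) L) a⁻¹ 0 (-(b * a⁻¹)) = fromBlocks a (1 : Matrix (Fin n) (Fin n) L) b 0 := by
      simp [fromBlocks_multiply, Matrix.mul_nonsing_inv a ha]
    have hc : IsUnit (-(b * a⁻¹)).det := by
      rw [det_neg, det_mul]
      refine ((isUnit_one.neg).pow _).mul (hb.mul ?_)
      rw [det_nonsing_inv]; exact ha.ringInverse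
    exact ((Φ.congr e (by rw [e]; exact isUnit_chartB a hb) _).symm.trans
      (hP _ (isUnit_chartA b ha) _ _ _ hc)).symm
  have hagree' : ∀ {L : Type u} [CommRing L] [Algebra k L] (a b : Matrix (Fin n) (Fin n) L) (ha : IsUnit a.det)
      (hb : IsUnit b.det), Ψ.F _ (isUnit_chartA b ha) = Ψ.F _ (isUnit_chartB a hb) := by
    intro L _ _ a b ha hb
    have h1 := hinv _ (isUnit_chartA b ha)
    have h2 := mul_eq_one_comm.1 (hinv _ (isUnit_chartB a hb))
    rw [← hagree a b ha hb] at h2
    calc Ψ.F _ (isUnit_chartA b ha) = Ψ.F _ (isUnit_chartA b ha) *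
          (Φ.F _ (isUnit_chartA b ha) * Ψ.F _ (isUnit_chartB a hb)) := by rw [h2, mul_one]
      _ = _ := by rw [← mul_assoc, h1, one_mul]
  obtain ⟨H, hH⟩ := Φ.exists_extension hagree
  obtain ⟨K, hK⟩ := Ψ.exists_extension hagree'
  -- work over the polynomial ring on `A`
  let Q := MvPolynomial (Var n) A
  let ι : MvPolynomial (Var n) k →ₐ[k] Q := MvPolynomial.mapAlgHom (Algebra.ofId k A)
  let d : Q := ι (genA k n).det
  let L := Localization.Away d
  let iL : Q →ₐ[k] L := IsScalarTower.toAlgHom k Q L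
  let cA : A →ₐ[k] Q := IsScalarTower.toAlgHom k A Q
  let f₁ : MvPolynomial (Var n) k →ₐ[k] L := iL.comp ι
  let σ₂ : MvPolynomial (Var n) k →ₐ[k] Q := MvPolynomial.aeval fun v =>
    Sum.elim (fun p : Fin n × Fin n => ((genB k n).map ι * g₀.map cA) p.1 p.2)
      (fun p : Fin n × Fin n => ((genA k n).map ι * g₀.map cA) p.1 p.2) v
  have hA₂ : (genA k n).map σ₂ = (genA k n).map ι * g₀.map cA := by
    ext i j; simp [σ₂, genA]
  have hB₂ : (genB k n).map σ₂ = (genB k n).map ι * g₀.map cA := by
    ext i j; simp [σ₂, genB]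
  let f₂ : MvPolynomial (Var n) k →ₐ[k] L := iL.comp σ₂
  have hu₁ : IsUnit ((genA k n).map f₁).det := by
    rw [show (genA k n).map f₁ = f₁.mapMatrix (genA k n) from rfl, ← AlgHom.map_det]
    exact IsLocalization.Away.algebraMap_isUnit d
  have hmap : ∀ (m : Matrix (Fin n) (Fin n) (MvPolynomial (Var n) k)) (τ : MvPolynomial (Var n) k →ₐ[k] Q),
      m.map (iL.comp τ) = (m.map τ).map iL := fun m τ => by rw [Matrix.map_map]; rfl
  have hgm : (g₀.map cA).map iL = g₀.map (iL.comp cA) := Matrix.map_map
  have hmul : ∀ (m m' : Matrix (Fin n) (Fin n) Q), (m * m').map iL = m.map iL * m'.map iL := fun m m' =>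
    Matrix.map_mul
  have hu₂ : IsUnit ((genA k n).map f₂).det := by
    rw [hmap, hA₂, hmul, det_mul, hgm, ← hmap]
    refine hu₁.mul ?_
    rw [show g₀.map (iL.comp cA) = (iL.comp cA).mapMatrix g₀ from rfl, ← AlgHom.map_det]
    exact hg₀.map _
  have key : H.map f₂ = H.map f₁ * g₀.map (iL.comp cA) := by
    rw [← hH L f₂ hu₂, ← hH L f₁ hu₁]
    have e : fromBlocks ((genA k n).map f₁) 0 ((genB k n).map f₁) 1 *
        fromBlocks (g₀.map (iL.comp cA)) 0 0 (1 : Matrix (Fin n) (Fin n) L) = fromBlocks ((genA k n).map f₂) 0 ((genB k n).map f₂) (1 : Matrix (Fin n) (Fin n) L) := by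
      rw [fromBlocks_multiply, hmap _ σ₂, hmap _ σ₂, hA₂, hB₂, hmul, hmul, hgm]
      simp only [Matrix.mul_zero, Matrix.mul_one, add_zero, zero_add, f₁, hmap]
    exact (Φ.congr e.symm _ (by rw [e]; exact isUnit_chartA _ hu₂)).trans
      (hG (iL.comp cA) _ (isUnit_chartA _ hu₁) _)
  have hreg : Function.Injective iL := by
    refine IsLocalization.injective L (M := Submonoid.powers d) ?_
    rintro _ ⟨m, rfl⟩
    refine mem_nonZeroDivisors_iff_right.2 fun f hf => ?_
    refine eq_zero_of_mul_map (d := (genA k n).det ^ m) (pow_ne_zero _ ?_) (by rw [map_pow]; exact hf)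
    rw [det_genA, Ne, ← map_zero (rename Sum.inr), (rename_injective _ Sum.inr_injective).eq_iff]
    exact det_gen_ne_zero n
  have key' : H.map σ₂ = H.map ι * g₀.map cA := by
    apply Matrix.map_injective hreg
    beta_reduce
    rw [hmul, ← hmap, ← hmap, hgm]
    exact key
  -- inverse
  have hKH : K * H = 1 := by
    let L₀ := Localization.Away (genA k n).det
    let i₀ : MvPolynomial (Var n) k →ₐ[k] L₀ := IsScalarTower.toAlgHom k _ L₀
    have hu₀ : IsUnit ((genA k n).map i₀).det := by
      rw [show (genA k n).map i₀ = i₀.mapMatrix (genA k n) from rfl, ← AlgHom.map_det]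
      exact IsLocalization.Away.algebraMap_isUnit _
    have hinj : Function.Injective i₀ := by
      refine IsLocalization.injective L₀ (M := Submonoid.powers (genA k n).det) (powers_le_nonZeroDivisors_of_noZeroDivisors ?_)
      rw [det_genA, Ne, ← map_zero (rename Sum.inr), (rename_injective _ Sum.inr_injective).eq_iff]
      exact det_gen_ne_zero n
    apply Matrix.map_injective hinj
    beta_reduce
    rw [Matrix.map_mul, ← hH L₀ i₀ hu₀, ← hK L₀ i₀ hu₀, hinv, Matrix.map_one _ (map_zero i₀) (map_one i₀)]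
  -- evaluation at zero
  let ev : Q →ₐ[k] A := (MvPolynomial.aeval (R := A) fun _ : Var n => (0 : A)).restrictScalars k
  have e₁ : ∀ m : Matrix (Fin n) (Fin n) (MvPolynomial (Var n) k), (m.map ι).map ev = (m.map σ₂).map ev := by
    intro m
    have : ev.comp ι = ev.comp σ₂ := by
      have hX : ∀ v : Var n, ι (X v) = X v := fun v => MvPolynomial.map_X (Algebra.ofId k A : k →+* A) v
      have hev : ∀ v : Var n, ev (X v) = 0 := fun v => MvPolynomial.aeval_X _ v
      apply MvPolynomial.algHom_ext
      rintro (v | v) <;> simp [σ₂, genA, genB, Matrix.mul_apply, hX, hev]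
    ext i j
    exact congr($this (m i j))
  have e₂ : (g₀.map cA).map ev = g₀ := by
    ext i j; simp [ev, cA]
  have e₃ := congrArg (fun m => m.map ev) key'
  simp only [Matrix.map_mul, e₂, ← e₁] at e₃
  have e₄ : (K.map ι).map ev * (H.map ι).map ev = 1 := by
    rw [← Matrix.map_mul, ← Matrix.map_mul, hKH, Matrix.map_one _ (map_zero ι) (map_one ι),
      Matrix.map_one _ (map_zero ev) (map_one ev)]
  calc g₀ = ((K.map ι).map ev * (H.map ι).map ev) * g₀ := by rw [e₄, one_mul]
    _ = (K.map ι).map ev * (H.map ι).map ev := by rw [mul_assoc, ← e₃]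
    _ = 1 := e₄

end Groth.Agent.Lib.NonTriv76
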