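import Groth.Agent.Lib.GalPts.Restrict
import Groth.Agent.Lib.TorsPush.Main
import Groth.Agent.Lib.Homog.Basic
import Groth.Agent.Lib.TorsorSch.FibreProd
import Groth.Agent.Lib.GrpQ.Kernel
import Groth.Prelude.Def_NonAbH2

/-!
# The push-forward of the tautological torsor over a homogeneous space

If every torsor over a homogeneous space `GG/Q` is trivial, then every homomorphism `Q ⟶ G` to an affine
group extends to a `Q`-equivariant morphism `GG ⟶ G`.
-/

set_option autoImplicit false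
set_option linter.unusedSectionVars false
set_option linter.style.haveILetI false

noncomputable section

universe u

open CategoryTheory Limits MonoidalCategory CartesianMonoidalCategory MonObj AlgebraicGeometry

namespace Groth.Agent.Lib.NonTriv76

open Groth.Agent.Lib Groth.Agent.Lib.GalPts

variable {k : Type u} [Field k] {GG Qg G : Over (Spec (CommRingCat.of k))} [GrpObj GG] [GrpObj Qg] [GrpObj G]

theorem exists_torsor_or_retraction [IsAffineHom G.hom] [LocallyOfFiniteType GG.hom] [QuasiCompact GG.hom]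
    (iQ : Qg ⟶ GG) [IsMonHom iQ] [Mono iQ] (π : Qg ⟶ G) [IsMonHom π]
    {T : Over (Spec (CommRingCat.of k))} {aT : AlgGrp.Action GG T}
    {o : 𝟙_ (Over (Spec (CommRingCat.of k))) ⟶ T} (hT : AGF.IsQuotient iQ T aT o) :
    (∃ P : NonAbH1.TorsorSch (Red.bc T.hom G) Scheme.fppfPrecoverage,
        ¬ NonAbH1.HasSectionOver P.X (𝟙 T.left)) ∨
      ∃ ρ : GG ⟶ G, ∀ {W : Over (Spec (CommRingCat.of k))} (x : W ⟶ GG) (q : W ⟶ Qg),
        (x * (q ≫ iQ)) ≫ ρ = (x ≫ ρ) * (q ≫ π) := by
  by_contra hcon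
  rw [not_or] at hcon
  obtain ⟨hP, hρ⟩ := hcon
  apply hρ
  obtain ⟨hTl, hTf, hTs, hpair⟩ := hT
  let p := aT.orbitMap o
  have hmem : ∀ {W : Over (Spec (CommRingCat.of k))} (x : W ⟶ GG) (q : W ⟶ Qg),
      (x * (q ≫ iQ)) ≫ p = x ≫ p := by
    intro W x q
    have w := congrArg (fun z => lift x q ≫ z) hpair.w
    simp only [← Category.assoc, lift_fst] at w
    rw [← Homog.comp_mulPair]
    simpa only [Category.assoc] using w.symm
  let f := T.hom
  let Pv : Over T.left := Over.mk p.left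
  let e : (Over.map f).obj Pv ⟶ GG := Over.homMk (𝟙 _) (by
    show 𝟙 _ ≫ GG.hom = p.left ≫ T.hom
    rw [Category.id_comp, Over.w])
  let e' : GG ⟶ (Over.map f).obj Pv := Over.homMk (𝟙 _) (by
    show 𝟙 _ ≫ p.left ≫ T.hom = GG.hom
    rw [Category.id_comp, Over.w])
  have hee : e ≫ e' = 𝟙 _ := Over.OverMorphism.ext (Category.id_comp _)
  let val : ∀ {Z : Over T.left}, (Z ⟶ Pv) → ((Over.map f).obj Z ⟶ GG) := fun u => (Over.map f).map u ≫ e
  let can : ∀ (Z : Over T.left), (Over.map f).obj Z ⟶ T := fun Z => Over.homMk Z.hom rfl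
  have hval : ∀ {Z : Over T.left} (u : Z ⟶ Pv), val u ≫ p = can Z := fun {Z} u => Over.OverMorphism.ext (by
    show (u.left ≫ 𝟙 _) ≫ p.left = Z.hom
    rw [Category.comp_id]; exact Over.w u)
  have valinj : ∀ {Z : Over T.left} (u v : Z ⟶ Pv), val u = val v → u = v := fun u v h => by
    refine Over.OverMorphism.ext ?_
    have h' := congrArg Over.Hom.left h
    simpa [val, e] using h'
  have valcomp : ∀ {Z Z' : Over T.left} (r : Z' ⟶ Z) (u : Z ⟶ Pv),
      val (r ≫ u) = (Over.map f).map r ≫ val u := by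
    intro Z Z' r u
    simp only [val, Functor.map_comp, Category.assoc]
  have valex : ∀ {Z : Over T.left} (x : (Over.map f).obj Z ⟶ GG), x ≫ p = can Z → ∃ u, val u = x := fun {Z} x hx =>
    ⟨Over.homMk x.left (congrArg Over.Hom.left hx), Over.OverMorphism.ext (Category.comp_id _)⟩
  obtain ⟨am, ham⟩ := valex (val (snd (Red.bc f Qg) Pv) * (Restrict.flat f (fst (Red.bc f Qg) Pv) ≫ iQ)⁻¹) (by
    rw [← GrpObj.inv_comp, hmem, hval])
  have hact : ∀ {Z : Over T.left} (h : Z ⟶ Red.bc f Qg) (u : Z ⟶ Pv),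
      val (lift h u ≫ am) = val u * (Restrict.flat f h ≫ iQ)⁻¹ := by
    intro Z h u
    rw [valcomp, ham, MonObj.comp_mul, GrpObj.comp_inv, ← valcomp, lift_snd, ← Category.assoc,
      ← Restrict.flat_comp, lift_fst]
  let b : AlgGrp.Action (Red.bc f Qg) Pv := Restrict.mkAction am
    (fun W u => valinj _ _ (by rw [hact, Restrict.flat_one, MonObj.one_comp, inv_one, _root_.mul_one]))
    (fun W g h u => valinj _ _ (by
      rw [hact, hact, hact, Restrict.flat_mul, MonObj.mul_comp, mul_inv_rev, _root_.mul_assoc]))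
  have hflatinj : ∀ {Z : Over T.left} {h h' : Z ⟶ Red.bc f Qg},
      Restrict.flat f h ≫ iQ = Restrict.flat f h' ≫ iQ → h = h' := fun e =>
    Restrict.flat_injective f ((cancel_mono iQ).1 e)
  have hb : NonAbH1.IsPseudoTorsorSch b := by
    obtain ⟨q, hq⟩ := Homog.exists_rel hpair (val (fst Pv Pv)) (val (snd Pv Pv)) (by rw [hval, hval])
    refine ⟨lift (Restrict.sharp f q) (snd Pv Pv), ?_, ?_⟩
    · apply CartesianMonoidalCategory.hom_ext
      · rw [Category.assoc, lift_fst, Category.id_comp]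
        refine hflatinj ?_
        have hq' := congrArg (fun z => (Over.map f).map (lift b.act (snd (Red.bc f Qg) Pv)) ≫ z) hq
        simp only [MonObj.comp_mul, ← valcomp, lift_fst, lift_snd] at hq'
        have ha : val b.act = val (snd _ Pv) * (Restrict.flat f (fst (Red.bc f Qg) Pv) ≫ iQ)⁻¹ := ham
        rw [Restrict.flat_comp, Restrict.flat_sharp, Category.assoc]
        rw [ha, _root_.mul_assoc] at hq'
        exact (inv_mul_eq_one.1 (mul_eq_left.1 hq'.symm)).symm
      · rw [Category.assoc, lift_snd, lift_snd, Category.id_comp]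
    · apply CartesianMonoidalCategory.hom_ext
      · rw [Category.assoc, lift_fst, Category.id_comp]
        refine valinj _ _ ?_
        show val (lift _ _ ≫ am) = _
        rw [hact, Restrict.flat_sharp, hq, mul_inv_cancel_right]
      · rw [Category.assoc, lift_snd, lift_snd, Category.id_comp]
  have : IsLocallyNoetherian T.left := LocallyOfFiniteType.isLocallyNoetherian T.hom
  have : LocallyOfFiniteType (p.left ≫ T.hom) := by rw [Over.w]; infer_instance
  have : LocallyOfFiniteType p.left := locallyOfFiniteType_of_comp p.left T.hom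
  have : LocallyOfFinitePresentation p.left := LocallyOfFinitePresentation.iff_locallyOfFiniteType.2 inferInstance
  have : IsAffineHom (Red.bc f G).hom :=
    MorphismProperty.pullback_snd (P := @IsAffineHom) _ f inferInstance
  obtain ⟨P', a', F, ha', -, hF⟩ := TorsPush.exists_pushforward b hb ((Over.pullback f).map π)
    Scheme.fppfPrecoverage_le_fpqcPrecoverage (Scheme.Hom.singleton_mem_fppfPrecoverage p.left)
  have hsec : NonAbH1.HasSectionOver P' (𝟙 T.left) := by
    by_contra hns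
    exact hP ⟨⟨P', a', ha'⟩, hns⟩
  obtain ⟨s, hs⟩ := hsec
  let S₀ : Over T.left := Over.mk (𝟙 T.left)
  let sX : S₀ ⟶ P' := Over.homMk s hs
  let toS : ∀ (Z : Over T.left), Z ⟶ S₀ := fun Z => Over.homMk Z.hom (Category.comp_id _)
  have hto : ∀ {Z Z' : Over T.left} (r : Z' ⟶ Z), r ≫ toS Z = toS Z' := fun r =>
    Over.OverMorphism.ext (Over.w r)
  obtain ⟨g, hg, -⟩ := TorsorSch.FibreProd.existsUnique_of_pseudo ha'.1 (toS Pv ≫ sX) F
  let ρ₀ : GG ⟶ G := e' ≫ Restrict.flat f g
  have hρ₀ : ∀ {Z : Over T.left} (u : Z ⟶ Pv), val u ≫ ρ₀ = Restrict.flat f (u ≫ g) := by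
    intro Z u
    simp only [val, ρ₀, Category.assoc, reassoc_of% hee]
    exact (Restrict.flat_comp f u g).symm
  have hequ : ∀ {Z : Over T.left} (h : Z ⟶ Red.bc f Qg) (u : Z ⟶ Pv),
      (val u * (Restrict.flat f h ≫ iQ)⁻¹) ≫ ρ₀ = (Restrict.flat f h ≫ π) * (val u ≫ ρ₀) := by
    intro Z h u
    rw [← hact, hρ₀, hρ₀, ← Restrict.flat_comp_map, ← Restrict.flat_mul]
    congr 1
    refine (TorsorSch.FibreProd.existsUnique_of_pseudo ha'.1 (toS Z ≫ sX) ((lift h u ≫ am) ≫ F)).unique ?_ ?_
    · show lift ((lift h u ≫ am) ≫ g) (toS Z ≫ sX) ≫ a'.act = _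
      have := congrArg (fun z => (lift h u ≫ am) ≫ z) hg
      simp only [comp_lift_assoc] at this
      rwa [← Category.assoc (lift h u ≫ am) (toS Pv), hto] at this
    · show lift ((h ≫ (Over.pullback f).map π) * (u ≫ g)) (toS Z ≫ sX) ≫ a'.act = _
      rw [GrpSch.act_mul]
      have := congrArg (fun z => u ≫ z) hg
      simp only [comp_lift_assoc] at this
      rw [← Category.assoc u (toS Pv), hto] at this
      rw [this, Category.assoc, show am ≫ F = _ from hF, comp_lift_assoc, lift_fst_assoc, lift_snd_assoc]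
  refine ⟨ρ₀⁻¹, fun {W} x q => ?_⟩
  let Z : Over T.left := Over.mk (x ≫ p).left
  let ε : (Over.map f).obj Z ⟶ W := Over.homMk (𝟙 _) (by
    show 𝟙 _ ≫ W.hom = (x ≫ p).left ≫ T.hom
    rw [Category.id_comp, Over.w])
  let ε' : W ⟶ (Over.map f).obj Z := Over.homMk (𝟙 _) (by
    show 𝟙 _ ≫ (x ≫ p).left ≫ T.hom = W.hom
    rw [Category.id_comp, Over.w])
  have hε : ε' ≫ ε = 𝟙 W := Over.OverMorphism.ext (Category.id_comp _)
  let u : Z ⟶ Pv := Over.homMk x.left rfl
  have hu : val u = ε ≫ x := Over.OverMorphism.ext (by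
    show x.left ≫ 𝟙 _ = 𝟙 _ ≫ x.left
    rw [Category.comp_id, Category.id_comp])
  have h := hequ (Restrict.sharp f (ε ≫ q⁻¹)) u
  rw [Restrict.flat_sharp, hu] at h
  have h' := congrArg (fun z => ε' ≫ z) h
  simp only [MonObj.comp_mul, GrpObj.comp_inv, ← Category.assoc, hε, Category.id_comp, GrpObj.inv_comp,
    inv_inv] at h'
  rw [GrpObj.comp_inv, GrpObj.comp_inv]
  rw [h', mul_inv_rev, inv_inv]

end Groth.Agent.Lib.NonTriv76
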