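import Groth.Agent.Lib.NonTriv76.Core
import Groth.Agent.Lib.NonTriv76.Blocks
import Groth.Agent.Lib.NonTriv76.Torsor
import Groth.Agent.Lib.Homog.Affine

/-!
# A non-trivial affine group has a non-trivial torsor over a scheme of finite type
-/

set_option autoImplicit false
set_option linter.unusedSectionVars false
set_option linter.style.haveILetI false

noncomputable section

universe u

open CategoryTheory Limits MonoidalCategory CartesianMonoidalCategory MonObj AlgebraicGeometry
open Groth.Agent.Lib.RedPts Groth.Agent.Lib.GrpQ Groth.Agent.Lib.GrpQ.AffQ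

namespace Groth.Agent.Lib.NonTriv76

attribute [local instance] Points.baseAlgebra

variable {k : Type u} [Field k]

/-- The scheme of an algebra. -/
abbrev spL (k : Type u) [Field k] (L : Type u) [CommRing L] [Algebra k L] : Over (Spec (CommRingCat.of k)) :=
  (Spec (CommRingCat.of L)).asOver (Spec (CommRingCat.of k))

/-- An algebra is the functions on its scheme. -/
def gam (L : Type u) [CommRing L] [Algebra k L] : L →ₐ[k] Γ((spL k L).left, ⊤) :=
  { Points.ringHomOf (𝟙 (Spec (CommRingCat.of L))) with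
    commutes' := fun r => Points.ringHomOf_algebraMap' (R := k) (spL k L) (𝟙 _) (Category.id_comp _) r }

theorem gam_bijective (L : Type u) [CommRing L] [Algebra k L] : Function.Bijective (gam (k := k) L) := by
  have e : ∀ a, gam (k := k) L a = (Scheme.ΓSpecIso (CommRingCat.of L)).inv a := fun a => by
    show (Points.ringHomOf (𝟙 (Spec (CommRingCat.of L)))) a = _
    rw [Points.ringHomOf_apply, Scheme.Hom.id_appTop]; rfl
  rw [show (gam (k := k) L : L → _) = _ from funext e]
  exact ConcreteCategory.bijective_of_isIso _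

variable {n : ℕ}

theorem mat_det_pt {L : Type u} [CommRing L] {M : Matrix (Idx2 n) (Idx2 n) L} (h : IsUnit M.det) :
    (M.submatrix finSumFinEquiv.symm finSumFinEquiv.symm).det * (Ring.inverse M.det) = 1 := by
  rw [Matrix.det_submatrix_equiv_self, Ring.mul_inverse_cancel _ h]

/-- The coordinate point of an invertible matrix. -/
def ptOf {L : Type u} [CommRing L] [Algebra k L] (M : Matrix (Idx2 n) (Idx2 n) L) (h : IsUnit M.det) :
    CoordGrp.GLn (n + n) k →ₐ[k] L :=
  CoordGrp.GLn.pt (n + n) k (M.submatrix finSumFinEquiv.symm finSumFinEquiv.symm) (Ring.inverse M.det) (mat_det_pt h)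

theorem ptOf_map {L L' : Type u} [CommRing L] [Algebra k L] [CommRing L'] [Algebra k L'] (f : L →ₐ[k] L')
    (M : Matrix (Idx2 n) (Idx2 n) L) (h : IsUnit M.det) :
    ptOf (M.map f) (isUnit_det_map f h) = f.comp (ptOf M h) := by
  refine CoordGrp.GLn.algHom_ext (fun i j => ?_) ?_
  · simp [ptOf, Matrix.map_apply]
  · simp only [ptOf, AlgHom.comp_apply, CoordGrp.GLn.pt_Dinv]
    refine (isUnit_det_map f h).mul_right_injective ?_
    dsimp only
    rw [Ring.mul_inverse_cancel _ (isUnit_det_map f h),
      show (M.map f).det = f M.det from (AlgHom.map_det f M).symm, ← map_mul, Ring.mul_inverse_cancel _ h, map_one]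

/-- The family of matrices of a matrix of functions on `GL`. -/
def famOf (b : Matrix (Fin n) (Fin n) (CoordGrp.GLn (n + n) k)) : Fam k n where
  F M h := b.map (ptOf M h)
  nat f M h := by
    rw [ptOf_map f M h, Matrix.map_map]; rfl

/-- A matrix of functions on `GL` is read off the universal point. -/
theorem exists_matrix (mu : GLk k (n + n) ⟶ GLk k n) :
    ∃ b : Matrix (Fin n) (Fin n) (CoordGrp.GLn (n + n) k),
      ∀ {W : Over (Spec (CommRingCat.of k))} (x : W ⟶ GLk k (n + n)),
        mN (x ≫ mu) = b.map (Points.algHomOf x) := by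
  have hb : ∀ i j, ∃ c, gam (k := k) (CoordGrp.GLn (n + n) k) c = mN mu i j := fun i j =>
    (gam_bijective (k := k) (CoordGrp.GLn (n + n) k)).2 _
  choose b hb using hb
  refine ⟨Matrix.of b, fun {W} x => ?_⟩
  rw [mN_comp]
  ext i j
  show x.left.appTop (mN mu i j) = Points.ringHomOf x.left (b i j)
  rw [← hb i j]
  show x.left.appTop (Points.ringHomOf (𝟙 _) (b i j)) = _
  exact ((Points.ringHomOf_comp x.left (𝟙 _) (b i j)).symm).trans
    (congrArg (fun z => Points.ringHomOf z (b i j)) (Category.comp_id x.left))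

theorem famOf_spec {b : Matrix (Fin n) (Fin n) (CoordGrp.GLn (n + n) k)} {mu : GLk k (n + n) ⟶ GLk k n}
    (hb : ∀ {W : Over (Spec (CommRingCat.of k))} (x : W ⟶ GLk k (n + n)), mN (x ≫ mu) = b.map (Points.algHomOf x))
    {L : Type u} [CommRing L] [Algebra k L] {M : Matrix (Idx2 n) (Idx2 n) L} (h : IsUnit M.det)
    (x : spL k L ⟶ GLk k (n + n)) (hx : mat x = M.map (gam L)) :
    ((famOf b).F M h).map (gam L) = mN (x ≫ mu) := by
  rw [hb x]
  show (b.map (ptOf M h)).map (gam L) = _
  rw [Matrix.map_map]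
  congr 1
  have e : (gam (k := k) L).comp (ptOf M h) = Points.algHomOf x := by
    refine Eq.trans ?_ (congrArg Points.algHomOf (show Points.pointOf (Points.algHomOf x) = x from Points.pointOf_algHomOf x))
    rw [Points.algHomOf_pointOf]
    refine CoordGrp.GLn.algHom_ext (fun i j => ?_) ?_
    · have := congrFun (congrFun hx (finSumFinEquiv.symm i)) (finSumFinEquiv.symm j)
      simp only [mat, Matrix.submatrix_apply, Equiv.apply_symm_apply, Matrix.map_apply] at this
      simp only [AlgHom.comp_apply, ptOf, CoordGrp.GLn.pt_X, Matrix.submatrix_apply]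
      exact this.symm
    · refine (isUnit_det_map (gam (k := k) L) h).mul_right_injective ?_
      dsimp only
      simp only [AlgHom.comp_apply, ptOf, CoordGrp.GLn.pt_Dinv]
      rw [show (M.map (gam (k := k) L)).det = gam (k := k) L M.det from (AlgHom.map_det _ M).symm, ← map_mul,
        Ring.mul_inverse_cancel _ h, map_one,
        show gam (k := k) L M.det = (mat x).det from (AlgHom.map_det _ M).trans (congrArg Matrix.det hx.symm)]
      rw [mat, Matrix.det_submatrix_equiv_self, det_mN, ← map_mul, CoordGrp.GLn.det_mul_Dinv, map_one]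
  exact congrArg DFunLike.coe e

/-- A non-trivial affine group has a non-trivial torsor over a scheme of finite type. -/
theorem exists_torsor (G : Over (Spec (CommRingCat.of k))) [GrpObj G] [IsAffineHom G.hom]
    [LocallyOfFiniteType G.hom] (hG : ¬ IsIso G.hom) :
    ∃ (T : Scheme.{u}) (f : T ⟶ Spec (CommRingCat.of k)),
      LocallyOfFiniteType f ∧ QuasiCompact f ∧
      ∃ P : NonAbH1.TorsorSch (Red.bc f G) Scheme.fppfPrecoverage,
        ¬ NonAbH1.HasSectionOver P.X (𝟙 T) := by
  have : IsAffine G.left := isAffine_of_isAffineHom G.hom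
  obtain ⟨A, _, _, e, he⟩ := H1.Hopf.exists_iso G
  have hie : IsIso e.inv.left := ((Over.forget _).mapIso e.symm).isIso_hom
  have hie' : IsIso e.hom.left := ((Over.forget _).mapIso e).isIso_hom
  have : Algebra.FiniteType k A := DomFlat.finiteType_of_locallyOfFiniteType (by
    rw [← Over.w e.inv]; infer_instance)
  obtain ⟨n, π₀, hπ₀⟩ := S16480.result k A
  let ιG : G ⟶ GLk k n := e.hom ≫ homOfBialgHom π₀
  have hcl : IsClosedImmersion (homOfBialgHom π₀).left := by
    rw [homOfBialgHom_left]
    exact IsClosedImmersion.spec_of_surjective _ hπ₀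
  have : IsClosedImmersion ιG.left := by
    change IsClosedImmersion (e.hom.left ≫ (homOfBialgHom π₀).left)
    infer_instance
  have : IsMonHom ιG := inferInstanceAs (IsMonHom (e.hom ≫ homOfBialgHom π₀))
  have := GrpQ.mono_of_left ιG
  obtain ⟨Q, _, iQ, π, hiQm, hπm, hiQc, hQ1, hQ2⟩ := exists_blockSub ιG
  have := GrpQ.mono_of_left iQ
  have := Homog.smooth_GLn (k := k) (n + n)
  have : LocallyOfFiniteType (GLk k (n + n)).hom :=
    DomFlat.locallyOfFiniteType_of_finiteType (k := k) (CoordGrp.GLn (n + n) k)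
  have : QuasiCompact (GLk k (n + n)).hom := inferInstance
  have : LocallyOfFiniteType Q.hom := by rw [← Over.w iQ]; infer_instance
  have : QuasiCompact Q.hom := by rw [← Over.w iQ]; infer_instance
  obtain ⟨T, aT, o, hq, hqc⟩ := Homog.exists_quotient_affine (GLk k (n + n)) Q iQ
  rcases exists_torsor_or_retraction iQ π hq with hP | ⟨ρ, hρ⟩
  · exact ⟨T.left, T.hom, hq.1, hqc, hP⟩
  exfalso
  apply hG
  obtain ⟨bΦ, hbΦ⟩ := exists_matrix (ρ ≫ ιG)
  obtain ⟨bΨ, hbΨ⟩ := exists_matrix (ρ⁻¹ ≫ ιG)
  let g₀ : Matrix (Fin n) (Fin n) A := Matrix.of fun i j => π₀ (CoordGrp.GLn.X i j)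
  have hg₀ : IsUnit g₀.det := by
    have h : g₀.det = π₀ CoordGrp.GLn.det := by
      rw [CoordGrp.GLn.det_eq]
      exact (AlgHom.map_det (π₀ : CoordGrp.GLn n k →ₐ[k] A) _).symm
    rw [h]
    exact IsUnit.of_mul_eq_one (π₀ CoordGrp.GLn.Dinv) (by rw [← map_mul, CoordGrp.GLn.det_mul_Dinv, map_one])
  have hkey : ∀ {L : Type u} [CommRing L] [Algebra k L] (M : Matrix (Idx2 n) (Idx2 n) L) (h : IsUnit M.det),
      ∃ x : spL k L ⟶ GLk k (n + n), mat x = M.map (gam L) := fun M h => exists_mat _ (isUnit_det_map _ h)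
  have hone : g₀ = 1 := by
    refine eq_one_of_fam g₀ hg₀ (famOf bΦ) (famOf bΨ) (fun {L} _ _ M h => ?_)
      (fun {L} _ _ M h v c h' hc => ?_) (fun {L} _ _ χ M h h' => ?_)
    · apply Matrix.map_injective (gam_bijective (k := k) L).1
      obtain ⟨x, hx⟩ := hkey M h
      beta_reduce
      rw [Matrix.map_mul, famOf_spec hbΨ h x hx, famOf_spec hbΦ h x hx,
        Matrix.map_one _ (map_zero _) (map_one _), ← mN_mul]
      have e : (x ≫ ρ⁻¹ ≫ ιG) * (x ≫ ρ ≫ ιG) = 1 := by
        rw [← Category.assoc x ρ⁻¹ ιG, ← Category.assoc x ρ ιG, ← MonObj.mul_comp, GrpObj.comp_inv,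
          inv_mul_cancel, MonObj.one_comp]
      rw [e, mN_one]
    · apply Matrix.map_injective (gam_bijective (k := k) L).1
      obtain ⟨x, hx⟩ := hkey M h
      obtain ⟨q, hqg, hqm⟩ := hQ2 (1 : spL k L ⟶ G) (v.map (gam L)) (c.map (gam L)) (isUnit_det_map _ hc)
      have hx' : mat (x * (q ≫ iQ)) = (M * Matrix.fromBlocks 1 v 0 c).map (gam L) := by
        rw [mat_mul, hx, hqm, MonObj.one_comp, mN_one, Matrix.map_mul, Matrix.fromBlocks_map,
          Matrix.map_one _ (map_zero _) (map_one _), Matrix.map_zero _ (map_zero _)]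
      beta_reduce
      rw [famOf_spec hbΦ h' _ hx', famOf_spec hbΦ h x hx, ← Category.assoc, hρ, hqg, _root_.mul_one, Category.assoc]
    · apply Matrix.map_injective (gam_bijective (k := k) L).1
      obtain ⟨x, hx⟩ := hkey M h
      let gG : spL k L ⟶ G :=
        Points.pointOf (A := A) (W := spL k L) ((gam (k := k) L).comp χ) ≫ e.inv
      have hgG : mN (gG ≫ ιG) = (g₀.map χ).map (gam L) := by
        ext i j
        show Points.algHomOf (gG ≫ e.hom ≫ homOfBialgHom π₀) (CoordGrp.GLn.X i j) = _
        rw [Category.assoc (Points.pointOf _) e.inv, e.inv_hom_id_assoc,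
          algHomOf_comp _ (homOfBialgHom π₀) (π₀ : CoordGrp.GLn n k →ₐ[k] A) rfl, Points.algHomOf_pointOf]
        rfl
      obtain ⟨q, hqg, hqm⟩ := hQ2 gG 0 1 (by rw [Matrix.det_one]; exact isUnit_one)
      have hx' : mat (x * (q ≫ iQ)) = (M * Matrix.fromBlocks (g₀.map χ) 0 0 1).map (gam L) := by
        rw [mat_mul, hx, hqm, hgG, Matrix.map_mul, Matrix.fromBlocks_map,
          Matrix.map_one _ (map_zero _) (map_one _), Matrix.map_zero _ (map_zero _)]
      beta_reduce
      rw [famOf_spec hbΦ h' _ hx', Matrix.map_mul, famOf_spec hbΦ h x hx, ← Category.assoc, hρ, hqg,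
        MonObj.mul_comp, mN_mul, hgG, Category.assoc]
  have hid : 𝟙 G = 1 := by
    rw [← cancel_mono ιG]
    apply mN_injective
    rw [MonObj.one_comp, mN_one, Category.id_comp]
    ext i j
    show Points.algHomOf (e.hom ≫ homOfBialgHom π₀) (CoordGrp.GLn.X i j) = _
    rw [algHomOf_comp _ (homOfBialgHom π₀) (π₀ : CoordGrp.GLn n k →ₐ[k] A) rfl]
    have h := congrFun (congrFun hone i) j
    simp only [g₀, Matrix.of_apply] at h
    refine (congrArg (Points.algHomOf e.hom) h).trans ?_
    rw [Matrix.one_apply, Matrix.one_apply]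
    split_ifs <;> simp
  refine ⟨η[G].left, ?_, ?_⟩
  · have := congrArg Over.Hom.left hid
    rw [Over.id_left, Hom.one_def, Over.comp_left, Over.toUnit_left] at this
    exact this.symm
  · exact Over.w η[G]

end Groth.Agent.Lib.NonTriv76
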